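import Groth.Agent.Lib.Lead.ExtCodim.Dim
import Groth.Agent.Lib.Helper17.ExtDepth
import Groth.Agent.Lib.Helper18.MCMFree
import Groth.Agent.Lib.Helper28.DCohRes22
import Groth.Agent.Lib.Helper9.RefStalk2
import Groth.Agent.Lib.Helper3.CoprodVA
import Groth.Agent.Lib.Lead.Koszul.ClosedSub
import Groth.Agent.Lib.Lead.SD.LowVanish

/-!
# Vanishing of `ℰxt^i(ι_* O_X, E)` below the codimension, on `P^N_k`

For a closed immersion `ι : X → P^N_k` with `dim X + r ≤ N` and `E` finite locally free on `P^N_k`,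
the Ext sheaves `ℰxt^i(ι_* O_X, E)` vanish for `i < r`.
-/

set_option autoImplicit false

universe u

open CategoryTheory CategoryTheory.Limits AlgebraicGeometry TopologicalSpace Opposite

namespace Groth.Agent.Lib.Lead.ExtCodim

open Groth.Agent.Lib.Helper29.QCoh

section Support

variable {X Y : Scheme.{u}} (i : X ⟶ Y) [IsClosedImmersion i]

/-- the stalks of a direct image along a closed immersion vanish off the image -/
lemma subsingleton_stalk_push_of_not_mem_range (M : X.Modules) (x : Y) (hx : x ∉ Set.range i) :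
    Subsingleton (((Scheme.Modules.pushforward i).obj M).presheaf.stalk x) := by
  let U : Y.Opens := ⟨(Set.range i)ᶜ, i.isClosedEmbedding.isClosed_range.isOpen_compl⟩
  have hxU : x ∈ U := hx
  refine ⟨fun a b => ?_⟩
  suffices h : ∀ t : ((Scheme.Modules.pushforward i).obj M).presheaf.stalk x, t = 0 by
    rw [h a, h b]
  intro t
  obtain ⟨V, hxV, s, rfl⟩ := ((Scheme.Modules.pushforward i).obj M).presheaf.exists_germ_eq t
  have hle : V ⊓ U ≤ V := inf_le_left
  have hmem : x ∈ V ⊓ U := ⟨hxV, hxU⟩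
  have h1 := germ_res ((Scheme.Modules.pushforward i).obj M) hle x hmem s
  have hbot : i ⁻¹ᵁ (V ⊓ U) = ⊥ := by
    ext y
    simp only [Scheme.Hom.mem_preimage, Opens.coe_bot, Set.mem_empty_iff_false, iff_false,
      SetLike.mem_coe]
    rintro ⟨-, hyU⟩
    exact hyU ⟨y, rfl⟩
  haveI : Subsingleton Γ((Scheme.Modules.pushforward i).obj M, V ⊓ U) := by
    show Subsingleton Γ(M, i ⁻¹ᵁ (V ⊓ U))
    exact Groth.Agent.Lib.Helper3.CoprodMod.subsingleton_of_eq_bot M hbot
  rw [← h1, Subsingleton.elim (res ((Scheme.Modules.pushforward i).obj M) hle s) 0, map_zero]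

lemma support_push_subset_range (M : X.Modules) :
    CohB1.support ((Scheme.Modules.pushforward i).obj M) ⊆ Set.range i := by
  intro x hx
  by_contra h
  exact hx (subsingleton_stalk_push_of_not_mem_range i M x h)

end Support

variable (k : Type u) [Field k] (N : ℕ) {X : Scheme.{u}} (ι : X ⟶ CohB1.ProjSpace N k)
  [IsClosedImmersion ι]

/-- **Ext sheaves of a closed subscheme of `P^N_k` into a vector bundle vanish below the
codimension.** -/
theorem isZero_extSh_push_unit (r : ℕ)
    (hr : topologicalKrullDim ↥X + (r : WithBot ℕ∞) ≤ (N : WithBot ℕ∞))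
    (E : (CohB1.ProjSpace N k).Modules) (hE : FlatMod.IsFinLocFree E)
    [ModSite.HasSheafHom (O := (CohB1.ProjSpace N k).sheaf)
      ((Scheme.Modules.pushforward ι).obj (Coh.structureModule X))]
    [HasInjectiveResolutions (ModSite.Mod (CohB1.ProjSpace N k).sheaf)] (i : ℕ) (hi : i < r) :
    IsZero ((ModSite.extSh (O := (CohB1.ProjSpace N k).sheaf)
      ((Scheme.Modules.pushforward ι).obj (Coh.structureModule X)) i).obj E) := by
  haveI : IsLocallyNoetherian (CohB1.ProjSpace N k) :=
    Groth.Agent.Lib.Lead.Pn.isLocallyNoetherian_projSpace N k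
  have hG : Coh.IsCoh ((Scheme.Modules.pushforward ι).obj (Coh.structureModule X)) :=
    Groth.Agent.Lib.Lead.Koszul.isCoh_push N k ι _ (Groth.Agent.Lib.Helper9.RefStalk.isCoh_unit X)
  have hEc : Coh.IsCoh E := Groth.Agent.Lib.Lead.SD.isCoh_of_isFinLocFree hE
  refine Groth.Agent.Lib.Helper17.ExtDepth.isZero_extSh_of_le_depth _ E hG hEc r ?_ i hi
  intro x hx
  obtain ⟨y, rfl⟩ := support_push_subset_range ι _ hx
  haveI : IsRegularLocalRing ((CohB1.ProjSpace N k).presheaf.stalk (ι y)) :=
    isRegularLocalRing_stalk k N (ι y)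
  haveI : Module.Flat ((CohB1.ProjSpace N k).presheaf.stalk (ι y)) (E.presheaf.stalk (ι y)) :=
    Groth.Agent.Lib.Helper28.DCohRes.isFlat_of_isFinLocFree hE (ι y)
  have h1 := Groth.Agent.Lib.Helper18.CM.ringKrullDim_le_depth_of_free
    ((CohB1.ProjSpace N k).presheaf.stalk (ι y)) (E.presheaf.stalk (ι y))
  have h2 := @le_ringKrullDim_stalk k _ N X ι ‹IsClosedImmersion ι› r hr y
  have h3 := h2.trans h1
  exact_mod_cast h3

end Groth.Agent.Lib.Lead.ExtCodim
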