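import Groth.Agent.Lib.Lead.ExtCodim.ClReflect
import Groth.Agent.Lib.Helper17.ExtCohGlobal
import Groth.Agent.Lib.Helper29.PullTensor
import Groth.Agent.Lib.Helper29.QCohDescent
import Groth.Agent.Lib.Helper9.RefStalk2
import Groth.Agent.Lib.Lead.Koszul.ClosedSub
import Groth.Agent.Lib.Lead.Koszul.SerreVanish
import Groth.Agent.Lib.Lead.SD.ExtTwist
import Groth.Agent.Lib.Lead.SD.LowVanish

/-!
# Vanishing of `H^p(X, O_X(-m))` from a vanishing-type duality (Hartshorne III.7.6 (i) ⇒ (ii))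

`X ⊆ P^n_k` closed, `ω` with `ι_* ω ≅ ℰxt^{n-r}(ι_* O_X, ω_P)`.  Then `ω` is coherent, so that
`Ext^i(O_X(-m), ω) ≅ H^i(X, ω(m))` vanishes for `i ≥ 1`, `m ≫ 0` (Serre).
-/

set_option autoImplicit false

universe u

open CategoryTheory CategoryTheory.Limits AlgebraicGeometry TopologicalSpace Opposite

namespace Groth.Agent.Lib.Lead.ExtCodim

open Groth.Agent.Lib.Helper29.QCoh Groth.Agent.Lib.Lead.Pn Groth.Agent.Lib.Lead.Koszul
  Groth.Agent.Lib.Lead.SD

section Reflect

variable {Z T : Scheme.{u}} (i : Z ⟶ T) [IsClosedImmersion i]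

/-- coherence descends along the direct image of a closed immersion -/
lemma isCoh_of_isCoh_push (N : Z.Modules) (h : Coh.IsCoh ((Scheme.Modules.pushforward i).obj N)) :
    Coh.IsCoh N := by
  haveI : ((Scheme.Modules.pushforward i).obj N).IsQuasicoherent := h.1
  haveI : N.IsQuasicoherent := isQuasicoherent_of_pushforward_closedImmersion i N
  exact ⟨inferInstance, isFiniteType_of_pushforward i N h.2⟩

end Reflect

variable (k : Type u) [Field k] (n : ℕ) {X : Scheme.{u}} (ι : X ⟶ CohB1.ProjSpace n k)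

/-- `ι^* O(a) ⊗ ι^* O(-a) ≅ O_X` -/
lemma nonempty_pull_twist_tensor_iso (a : ℤ) :
    Nonempty (CohB1.tensorMod ((Scheme.Modules.pullback ι).obj (Twist.twistProjSpace n k a))
      ((Scheme.Modules.pullback ι).obj (Twist.twistProjSpace n k (-a))) ≅
        Coh.structureModule X) := by
  obtain ⟨e1⟩ := nonempty_twist_tensor_iso n k a (-a)
  obtain ⟨e0⟩ := nonempty_unit_iso_twist_zero (CohB1.polyGrading n k)
  obtain ⟨φ, -⟩ := exists_pullbackTensorIso ι (isInvertible_twistProjSpace n k a)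
    (isInvertible_twistProjSpace n k (-a))
  exact ⟨φ.symm ≪≫ (Scheme.Modules.pullback ι).mapIso
    (e1 ≪≫ eqToIso (congrArg (Twist.twistProjSpace n k) (add_neg_cancel a)) ≪≫ e0.symm) ≪≫
    pullbackUnitIso ι⟩

variable [IsClosedImmersion ι]

/-- **Hartshorne III.7.6 (i) ⇒ (ii), vanishing form.** -/
theorem exists_vanishing_of_dual (r s : ℕ) (hs : s ≤ r) (c : ℕ)
    [ModSite.HasSheafHom (O := (CohB1.ProjSpace n k).sheaf)
      ((Scheme.Modules.pushforward ι).obj (Coh.structureModule X))]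
    [HasInjectiveResolutions (ModSite.Mod (CohB1.ProjSpace n k).sheaf)]
    (E : (CohB1.ProjSpace n k).Modules) (hE : FlatMod.IsFinLocFree E)
    (ω : X.Modules)
    (hω : Nonempty ((Scheme.Modules.pushforward ι).obj ω ≅
      (ModSite.extSh (O := (CohB1.ProjSpace n k).sheaf)
        ((Scheme.Modules.pushforward ι).obj (Coh.structureModule X)) c).obj E))
    [HasExt.{u} X.Modules]
    (hdual : ∀ G : X.Modules, Coh.IsCoh G → ∀ i : ℕ, i ≤ s →
      (Subsingleton (Abelian.Ext G ω i) ↔ Subsingleton (Coh.HH X G (r - i)))) :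
    ∀ p : ℕ, r - s ≤ p → p < r → ∃ m₀ : ℤ, ∀ m : ℤ, m₀ ≤ m →
      Subsingleton (Coh.HH X
        ((Scheme.Modules.pullback ι).obj (Twist.twistProjSpace n k (-m))) p) := by
  intro p hp1 hp2
  haveI : IsLocallyNoetherian (CohB1.ProjSpace n k) :=
    Groth.Agent.Lib.Lead.Pn.isLocallyNoetherian_projSpace n k
  obtain ⟨eω⟩ := hω
  have hG : Coh.IsCoh ((Scheme.Modules.pushforward ι).obj (Coh.structureModule X)) :=
    isCoh_push n k ι _ (Groth.Agent.Lib.Helper9.RefStalk.isCoh_unit X)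
  have hEc : Coh.IsCoh E := isCoh_of_isFinLocFree hE
  have hext : Coh.IsCoh ((ModSite.extSh (O := (CohB1.ProjSpace n k).sheaf)
      ((Scheme.Modules.pushforward ι).obj (Coh.structureModule X)) c).obj E) :=
    Groth.Agent.Lib.Helper17.ExtCohGlobal.isCoh_extSh _ E hG hEc c
  have hpush : Coh.IsCoh ((Scheme.Modules.pushforward ι).obj ω) := by
    haveI := hext.1
    haveI := hext.2
    exact ⟨isQuasicoherent_of_iso eω.symm, isFiniteType_of_iso eω.symm⟩
  have hωc : Coh.IsCoh ω := isCoh_of_isCoh_push ι ω hpush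
  haveI : ω.IsQuasicoherent := hωc.1
  obtain ⟨j₀, hj₀⟩ := exists_vanishing_tw n k _ hpush
  refine ⟨j₀, fun m hm => ?_⟩
  have hi1 : 1 ≤ r - p := by omega
  have hi2 : r - p ≤ s := by omega
  have hL : FlatMod.IsFinLocFree
      ((Scheme.Modules.pullback ι).obj (Twist.twistProjSpace n k (-m))) :=
    isFinLocFree_pullback ι (isFinLocFree_twist n k (-m))
  have h1 := hdual _ (isCoh_of_isFinLocFree hL) (r - p) hi2
  rw [show r - (r - p) = p by omega] at h1
  refine h1.1 ?_
  obtain ⟨μ⟩ := nonempty_pull_twist_tensor_iso k n ι (-m)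
  obtain ⟨μ'⟩ := nonempty_pull_twist_tensor_iso k n ι m
  rw [neg_neg] at μ
  obtain ⟨e⟩ := nonempty_ext_addEquiv_HH_tensor _ _ μ μ' hL ω (r - p)
  have h2 : Subsingleton (Coh.HH X (Pic13.twistOn k ι ω m) (r - p)) :=
    (subsingleton_HH_twistOn_iff n k ι ω m (r - p)).2 (hj₀ m hm (r - p) hi1)
  exact @Equiv.subsingleton _ _ e.toEquiv h2

end Groth.Agent.Lib.Lead.ExtCodim
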