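import Mathlib
import Groth.Agent.Lib.Helper11.AlgInd2

/-!
# A dimension inequality for quotients of polynomial rings

If `A ≃ k[σ]`, `φ : A → C` is surjective and `q` is a prime of `C`, then
`card σ ≤ ht (φ⁻¹ q) + dim C`.
-/

set_option autoImplicit false

universe u

namespace Groth.Agent.Lib.Lead.ExtCodim

open MvPolynomial

theorem card_le_height_comap_add_dim (k : Type u) [Field k] {σ : Type} [Finite σ]
    {A C : Type u} [CommRing A] [CommRing C] (e : MvPolynomial σ k ≃+* A)
    (φ : A →+* C) (hφ : Function.Surjective φ) (q : Ideal C) [hq : q.IsPrime] :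
    ((Nat.card σ : ℕ) : WithBot ℕ∞) ≤ ((q.comap φ).height : WithBot ℕ∞) + ringKrullDim C := by
  let ψ : MvPolynomial σ k →+* C := φ.comp (e : MvPolynomial σ k →+* A)
  have hψ : Function.Surjective ψ := hφ.comp e.surjective
  let p' : Ideal (MvPolynomial σ k) := q.comap ψ
  haveI : p'.IsPrime := Ideal.comap_isPrime ψ q
  have h1 := Groth.Agent.Lib.Helper11.AlgInd.height_add_dim_quotient k (MvPolynomial σ k) p'
  have h2 : ringKrullDim (MvPolynomial σ k) = ((Nat.card σ : ℕ) : WithBot ℕ∞) := by
    rw [MvPolynomial.ringKrullDim_of_isNoetherianRing, ringKrullDim_eq_zero_of_field, zero_add]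
  -- heights agree
  have h3 : p'.height = (q.comap φ).height := by
    have : p' = (q.comap φ).comap e := by
      ext x
      simp [p', ψ, Ideal.mem_comap]
    rw [this, RingEquiv.height_comap]
  -- the quotient `k[σ] / p'` is `C / q`
  have h4 : ringKrullDim (MvPolynomial σ k ⧸ p') ≤ ringKrullDim C := by
    let f : MvPolynomial σ k ⧸ p' →+* C ⧸ q := Ideal.quotientMap q ψ le_rfl
    have hf : Function.Injective f := Ideal.quotientMap_injective' le_rfl
    have hf' : Function.Surjective f := Ideal.quotientMap_surjective hψ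
    have e' : MvPolynomial σ k ⧸ p' ≃+* C ⧸ q := RingEquiv.ofBijective f ⟨hf, hf'⟩
    rw [ringKrullDim_eq_of_ringEquiv e']
    exact ringKrullDim_quotient_le q
  rw [← h2, h1, h3]
  exact add_le_add_right h4 _

end Groth.Agent.Lib.Lead.ExtCodim
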