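import Mathlib
import Groth.Prelude
import Groth.Agent.Lib.Lead.ExtCodim.Alg
import Groth.Agent.Lib.Helper25.ChartPoly1
import Groth.Agent.Lib.Helper25.BertiniPn2
import Groth.Agent.Lib.Helper29.TwistPn

/-!
# Local dimension of `P^N_k` along a closed subscheme

For a closed immersion `ι : X → P^N_k` with `dim X + r ≤ N`, every local ring of `P^N_k` at a point
of `X` is a regular local ring of dimension at least `r`.
-/

set_option autoImplicit false

universe u

open CategoryTheory AlgebraicGeometry TopologicalSpace Opposite MvPolynomial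

namespace Groth.Agent.Lib.Lead.ExtCodim

open Groth.Agent.Lib.Helper25.ChartPoly Groth.Agent.Lib.Helper25.SepPts
  Groth.Agent.Lib.Helper25.BertiniPn Groth.Agent.Lib.Helper29.QCoh

variable (k : Type u) [Field k] (N : ℕ)

/-- the coordinate ring of the standard chart `D_+(X_j)` is a polynomial ring -/
noncomputable def chartEquiv (j : Fin (N + 1)) :
    MvPolynomial {i : Fin (N + 1) // i ≠ j} k ≃+*
      Γ(Proj (CohB1.polyGrading N k), chartU k N j) :=
  (RingEquiv.ofBijective (theta N k j) (theta_bijective N k j)).trans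
    (Proj.basicOpenIsoAway (CohB1.polyGrading N k) (X j)
      (MvPolynomial.isHomogeneous_X k j) one_pos).commRingCatIsoToRingEquiv

lemma card_chart (j : Fin (N + 1)) : Nat.card {i : Fin (N + 1) // i ≠ j} = N := by
  rw [Nat.card_eq_fintype_card, Fintype.card_subtype_compl, Fintype.card_fin]
  simp

/-- the local rings of `P^N_k` are regular -/
theorem isRegularLocalRing_stalk (x : Proj (CohB1.polyGrading N k)) :
    IsRegularLocalRing ((Proj (CohB1.polyGrading N k)).presheaf.stalk x) := by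
  obtain ⟨j, hj⟩ := exists_mem_basicOpen_X N k x
  have hU : IsAffineOpen (chartU k N j) := Groth.Agent.Lib.Helper25.BertiniPn.isAffineOpen_chartU k N j
  letI : Algebra Γ(Proj (CohB1.polyGrading N k), chartU k N j)
      ((Proj (CohB1.polyGrading N k)).presheaf.stalk x) :=
    TopCat.Presheaf.algebra_section_stalk (Proj (CohB1.polyGrading N k)).presheaf ⟨x, hj⟩
  haveI := hU.isLocalization_stalk ⟨x, hj⟩
  haveI : IsRegularRing Γ(Proj (CohB1.polyGrading N k), chartU k N j) :=
    IsRegularRing.of_ringEquiv (chartEquiv k N j)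
  exact IsRegularLocalRing.of_ringEquiv
    (IsLocalization.algEquiv (hU.primeIdealOf ⟨x, hj⟩).asIdeal.primeCompl
      (Localization.AtPrime (hU.primeIdealOf ⟨x, hj⟩).asIdeal)
      ((Proj (CohB1.polyGrading N k)).presheaf.stalk x)).toRingEquiv

variable {X : Scheme.{u}} (ι : X ⟶ Proj (CohB1.polyGrading N k)) [IsClosedImmersion ι]

/-- **the dimension estimate**: at a point of a closed subscheme `X` of `P^N_k` with
`dim X + r ≤ N`, the local ring of `P^N_k` has dimension at least `r`. -/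
theorem le_ringKrullDim_stalk (r : ℕ)
    (hr : topologicalKrullDim ↥X + (r : WithBot ℕ∞) ≤ (N : WithBot ℕ∞)) (y : X) :
    (r : WithBot ℕ∞) ≤ ringKrullDim ((Proj (CohB1.polyGrading N k)).presheaf.stalk (ι y)) := by
  obtain ⟨j, hj⟩ := exists_mem_basicOpen_X N k (ι y)
  have hU : IsAffineOpen (chartU k N j) := Groth.Agent.Lib.Helper25.BertiniPn.isAffineOpen_chartU k N j
  have hV : IsAffineOpen (VV k N ι j) := isAffineOpen_VV k N ι j
  have hyV : y ∈ VV k N ι j := hj
  letI : Algebra Γ(Proj (CohB1.polyGrading N k), chartU k N j)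
      ((Proj (CohB1.polyGrading N k)).presheaf.stalk (ι y)) :=
    TopCat.Presheaf.algebra_section_stalk (Proj (CohB1.polyGrading N k)).presheaf ⟨ι y, hj⟩
  haveI := hU.isLocalization_stalk ⟨ι y, hj⟩
  have h1 : ringKrullDim ((Proj (CohB1.polyGrading N k)).presheaf.stalk (ι y)) =
      ((hU.primeIdealOf ⟨ι y, hj⟩).asIdeal.height : WithBot ℕ∞) :=
    IsLocalization.AtPrime.ringKrullDim_eq_height _ _
  have h2 : (hV.primeIdealOf ⟨y, hyV⟩).comap (ι.appLE (chartU k N j) (VV k N ι j) le_rfl).hom =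
      hU.primeIdealOf ⟨ι y, hj⟩ :=
    IsAffineOpen.comap_primeIdealOf_appLE (chartU k N j) hU (VV k N ι j) hV le_rfl hyV
  have hsurj : Function.Surjective (ι.appLE (chartU k N j) (VV k N ι j) le_rfl).hom := by
    have := ι.app_surjective (chartU k N j) hU
    rwa [Scheme.Hom.app_eq_appLE] at this
  have h3 := card_le_height_comap_add_dim k (chartEquiv k N j)
    (ι.appLE (chartU k N j) (VV k N ι j) le_rfl).hom hsurj (hV.primeIdealOf ⟨y, hyV⟩).asIdeal
  rw [card_chart] at h3
  have h2' : (hV.primeIdealOf ⟨y, hyV⟩).asIdeal.comap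
      (ι.appLE (chartU k N j) (VV k N ι j) le_rfl).hom = (hU.primeIdealOf ⟨ι y, hj⟩).asIdeal :=
    congrArg PrimeSpectrum.asIdeal h2
  rw [h2', ← h1] at h3
  -- `dim Γ(X, V) ≤ dim X`
  have h4 : ringKrullDim Γ(X, VV k N ι j) ≤ topologicalKrullDim ↥X := by
    have e1 : topologicalKrullDim ((VV k N ι j : X.Opens) : Set X) =
        topologicalKrullDim (PrimeSpectrum Γ(X, VV k N ι j)) :=
      IsHomeomorph.topologicalKrullDim_eq _ (Scheme.homeoOfIso hV.isoSpec).isHomeomorph
    rw [← PrimeSpectrum.topologicalKrullDim_eq_ringKrullDim, ← e1]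
    exact topologicalKrullDim_subspace_le X _
  -- arithmetic in `WithBot ℕ∞`
  set D := ringKrullDim ((Proj (CohB1.polyGrading N k)).presheaf.stalk (ι y)) with hD
  have h5 : (N : WithBot ℕ∞) ≤ D + topologicalKrullDim ↥X :=
    h3.trans (add_le_add_right h4 _)
  have h6 : topologicalKrullDim ↥X + (r : WithBot ℕ∞) ≤ D + topologicalKrullDim ↥X := hr.trans h5
  -- `dim X` is a natural number
  haveI : Nonempty ↥X := ⟨y⟩
  have hne : topologicalKrullDim ↥X ≠ ⊥ := by
    rw [Ne, topologicalKrullDim, Order.krullDim_eq_bot_iff, not_isEmpty_iff]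
    exact ⟨⟨closure {y}, isIrreducible_singleton.closure, isClosed_closure⟩⟩
  have hlt : topologicalKrullDim ↥X ≠ ⊤ := by
    intro h
    rw [h] at hr
    have : ((⊤ : WithBot ℕ∞) + (r : WithBot ℕ∞)) = ⊤ := by
      rw [show ((r : ℕ) : WithBot ℕ∞) = ((r : ℕ∞) : WithBot ℕ∞) from rfl, ← WithBot.coe_top,
        ← WithBot.coe_add, top_add]
    rw [this] at hr
    exact absurd hr (by
      rw [show ((N : ℕ) : WithBot ℕ∞) = ((N : ℕ∞) : WithBot ℕ∞) from rfl, ← WithBot.coe_top,
        WithBot.coe_le_coe]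
      simp)
  obtain ⟨d, hd⟩ : ∃ d : ℕ, topologicalKrullDim ↥X = (d : WithBot ℕ∞) := by
    obtain ⟨e, he⟩ := WithBot.ne_bot_iff_exists.1 hne
    have he' : e ≠ ⊤ := by
      intro h
      apply hlt
      rw [← he, h]
      rfl
    obtain ⟨d, hd⟩ := ENat.ne_top_iff_exists.1 he'
    exact ⟨d, by rw [← he, ← hd]; rfl⟩
  rw [hd] at h6
  by_cases hDb : D = ⊥
  · rw [hDb] at h6
    simp at h6
  obtain ⟨D', hD'⟩ := WithBot.ne_bot_iff_exists.1 hDb
  rw [← hD'] at h6 ⊢
  have h7 : ((d : ℕ∞) + (r : ℕ∞)) ≤ D' + (d : ℕ∞) := by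
    exact_mod_cast h6
  have h8 : (r : ℕ∞) ≤ D' := by
    rw [add_comm] at h7
    exact (ENat.add_le_add_iff_right (ENat.natCast_ne_top d)).1 h7
  exact_mod_cast h8

end Groth.Agent.Lib.Lead.ExtCodim
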