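import Mathlib
import Groth.Agent.Lib.Helper29.QCohPush
import Groth.Agent.Lib.Helper29.QCohCrit

/-!
# Quasi-coherence descends along the direct image of a closed immersion (any target)

Generalises `Helper28.RelPC.isQuasicoherent_of_pushforward_closedImmersion` (affine target) to an
arbitrary target scheme, by the same argument run over every affine open of the target.
-/

set_option autoImplicit false

universe u

open CategoryTheory Limits AlgebraicGeometry TopologicalSpace

namespace Groth.Agent.Lib.Lead.ExtCodim

open Groth.Agent.Lib.Helper29.QCoh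

/-- a module on the source of a closed immersion whose direct image is quasi-coherent is
quasi-coherent -/
theorem isQuasicoherent_of_pushforward_closedImmersion {Z T : Scheme.{u}} (i : Z ⟶ T)
    [IsClosedImmersion i] (N : Z.Modules)
    [((Scheme.Modules.pushforward i).obj N).IsQuasicoherent] : N.IsQuasicoherent := by
  set M := (Scheme.Modules.pushforward i).obj N with hM
  refine isQuasicoherent_of_localizing N (fun V : T.affineOpens => i ⁻¹ᵁ (V : T.Opens)) ?_
    (fun V => V.2.preimage i) ?_ ?_
  · rw [TopologicalSpace.IsOpenCover, eq_top_iff]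
    rintro x -
    obtain ⟨V, hV⟩ := (isOpenCover_affineOpens T).exists_mem (i x)
    exact Opens.mem_iSup.mpr ⟨V, hV⟩
  · rintro V g s
    obtain ⟨g', rfl⟩ := i.app_surjective (V : T.Opens) V.2 g
    have e : i ⁻¹ᵁ T.basicOpen g' = Z.basicOpen (i.app (V : T.Opens) g') :=
      Scheme.preimage_basicOpen i g'
    obtain ⟨n, m, hm⟩ := exists_pow_smul_eq_res M V.2 g'
      (show Γ(M, T.basicOpen g') from res N e.le s)
    refine ⟨n, (show Γ(N, i ⁻¹ᵁ (V : T.Opens)) from m), ?_⟩
    apply res_injective_of_eq N e
    rw [res_smul, res_res, map_pow, map_map_apply]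
    rw [pushforward_res, pushforward_smul, map_pow, app_map_apply] at hm
    exact hm
  · rintro V g m hm
    obtain ⟨g', rfl⟩ := i.app_surjective (V : T.Opens) V.2 g
    have e : i ⁻¹ᵁ T.basicOpen g' = Z.basicOpen (i.app (V : T.Opens) g') :=
      Scheme.preimage_basicOpen i g'
    have h0 : res M (T.basicOpen_le g') (show Γ(M, (V : T.Opens)) from m) = 0 := by
      rw [pushforward_res]
      have := congrArg (res N e.le) hm
      rw [res_res, map_zero] at this
      exact this
    obtain ⟨n, hn⟩ := exists_pow_smul_eq_zero M V.2 g' _ h0
    refine ⟨n, ?_⟩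
    rw [pushforward_smul, map_pow] at hn
    exact hn

end Groth.Agent.Lib.Lead.ExtCodim
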